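import Cfsg.Agent.Lib.NonMax.SympPower.Ops

/-!
In characteristic two the stabiliser of a symplectic tensor power in the orthogonal group normalises the sum of
the local spin spaces, whose stabiliser is strictly larger.
-/

set_option autoImplicit false
set_option linter.unusedSectionVars false
set_option maxHeartbeats 400000

namespace Cfsg.Agent.Lib.NonMax.SympPower

open Cfsg Cfsg.Geo Matrix Cfsg.Agent.Lib.Aschbacher
open scoped commutatorElement

variable {ι : Type} [Fintype ι] [DecidableEq ι] {F : Type*} [Field F] [Fintype F] {k t : ℕ}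

local notation "κ" => (Fin t → Fin k)
local notation "Mk" => Matrix (Fin k) (Fin k) F

/-- The vector of a frame with given coordinates. -/
def frameVec (e : ι ≃ κ) (P : GL ι F) (y : κ → F) : ι → F := (P : Matrix ι ι F) *ᵥ (y ∘ e)

/-- A pure tensor vector. -/
def pureVec (xs : Fin t → Fin k → F) : κ → F := fun a => ∏ i, xs i (a i)

lemma frameVec_add (e : ι ≃ κ) (P : GL ι F) (x y : κ → F) :
    frameVec e P (x + y) = frameVec e P x + frameVec e P y := Matrix.mulVec_add _ (x ∘ e) (y ∘ e)

lemma frameVec_smul (e : ι ≃ κ) (P : GL ι F) (c : F) (x : κ → F) :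
    frameVec e P (c • x) = c • frameVec e P x := Matrix.mulVec_smul _ c (x ∘ e)

lemma framed_mulVec (e : ι ≃ κ) (P : GL ι F) (A : Matrix κ κ F) (y : κ → F) :
    framed e P A *ᵥ frameVec e P y = frameVec e P (A *ᵥ y) := by
  rw [framed_apply, frameVec, frameVec, ← Matrix.mulVec_mulVec, ← Matrix.mulVec_mulVec,
    NonMax.inv_mulVec_mulVec, Matrix.submatrix_mulVec_equiv, Function.comp_assoc, Equiv.self_comp_symm,
    Function.comp_id]

/-- The hypotheses on the frame. -/
structure FrameForm (Q : (ι → F) → F) (e : ι ≃ κ) (P : GL ι F) (S : Mk) : Prop where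
  form : IsNondegenerateQuadraticForm Q
  gram : ∃ c : F, ∀ x y : κ → F, QuadraticMap.polar Q (frameVec e P x) (frameVec e P y) =
    c * (x ⬝ᵥ (pureTensor (fun _ : Fin t => S) *ᵥ y))
  scale : ∀ A : Matrix κ κ F, (∀ x y : κ → F, QuadraticMap.polar Q (frameVec e P (A *ᵥ x)) (frameVec e P (A *ᵥ y)) =
    QuadraticMap.polar Q (frameVec e P x) (frameVec e P y)) →
      Aᵀ * pureTensor (fun _ : Fin t => S) * A = pureTensor fun _ : Fin t => S
  pure : ∀ xs, Q (frameVec e P (pureVec xs)) = 0

variable {Q : (ι → F) → F} {e : ι ≃ (Fin t → Fin k)} {P : GL ι F} {S : Matrix (Fin k) (Fin k) F}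

/-- An operator preserving the polar form and the values on the basis is an isometry. -/
lemma mem_isometry_of_basis (h : FrameForm Q e P S) {g : GL ι F} {A : Matrix κ κ F}
    (hg : (g : Matrix ι ι F) = framed e P A)
    (hpol : Aᵀ * pureTensor (fun _ : Fin t => S) * A = pureTensor fun _ : Fin t => S)
    (hbas : ∀ a, Q (frameVec e P (A *ᵥ Pi.single a 1)) = Q (frameVec e P (Pi.single a 1))) :
    g ∈ isometryGroup F Q := by
  classical
  obtain ⟨c, hc⟩ := h.gram
  have hadd : ∀ x y : κ → F, Q (frameVec e P (A *ᵥ x)) = Q (frameVec e P x) →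
      Q (frameVec e P (A *ᵥ y)) = Q (frameVec e P y) →
      Q (frameVec e P (A *ᵥ (x + y))) = Q (frameVec e P (x + y)) := by
    intro x y hx hy
    rw [Matrix.mulVec_add, frameVec_add, frameVec_add, NonMax.quad_add (Q := Q), NonMax.quad_add (Q := Q), hx, hy, hc, hc]
    congr 2
    rw [Matrix.mulVec_mulVec, ← Matrix.vecMul_transpose, ← Matrix.dotProduct_mulVec, Matrix.mulVec_mulVec,
      ← mul_assoc, hpol]
  have hall : ∀ y : κ → F, Q (frameVec e P (A *ᵥ y)) = Q (frameVec e P y) := by
    intro y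
    rw [pi_eq_sum_univ' y]
    refine Finset.sum_induction _ (fun y => Q (frameVec e P (A *ᵥ y)) = Q (frameVec e P y)) hadd
      (by simp) fun a _ => ?_
    simp only [Matrix.mulVec_smul, frameVec_smul, h.form.smul]
    rw [← hbas a]
  intro v w
  show Q ((g : Matrix ι ι F) *ᵥ v) = Q v
  obtain ⟨y, rfl⟩ : ∃ y, v = frameVec e P y :=
    ⟨(((P⁻¹ : GL ι F) : Matrix ι ι F) *ᵥ v) ∘ e.symm, by
      rw [frameVec, Function.comp_assoc, Equiv.symm_comp_self, Function.comp_id, NonMax.mulVec_inv_mulVec]⟩
  rw [hg, framed_mulVec, hall]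

lemma pureTensor_single (as : Fin t → Mk) (a : κ) :
    pureTensor as *ᵥ Pi.single a 1 = pureVec fun i => fun j => as i j (a i) := by
  ext b
  simp [pureTensor, pureVec, Matrix.mulVec_single]

lemma single_eq_pureVec (a : κ) : (Pi.single a 1 : κ → F) = pureVec fun i => Pi.single (a i) 1 := by
  classical
  ext b
  rcases eq_or_ne b a with rfl | hb
  · simp [pureVec]
  · obtain ⟨i, hi⟩ := Function.ne_iff.mp hb
    rw [Pi.single_eq_of_ne hb]
    exact (Finset.prod_eq_zero (Finset.mem_univ i) (Pi.single_eq_of_ne hi _)).symm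

/-- A pure tensor of isometries is an isometry. -/
lemma pure_mem_isometry (h : FrameForm Q e P S) {g : GL ι F} {as : Fin t → Mk}
    (hg : (g : Matrix ι ι F) = framed e P (pureTensor as)) (has : ∀ i, (as i)ᵀ * S * as i = S) :
    g ∈ isometryGroup F Q := by
  refine mem_isometry_of_basis h hg ?_ fun a => ?_
  · rw [pureTensor_transpose, pureTensor_mul, pureTensor_mul]
    congr 1
    funext i
    exact has i
  · rw [pureTensor_single, h.pure, single_eq_pureVec, h.pure]

variable [CharP F 2]

/-- `1 + x` is an isometry for a self-adjoint square-zero pure tensor `x` with vanishing diagonal. -/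
lemma nil_mem_isometry (h : FrameForm Q e P S) {g : GL ι F} {as : Fin t → Mk}
    (hg : (g : Matrix ι ι F) = framed e P (1 + pureTensor as)) (hsq : ∃ i, as i * as i = 0)
    (hadj : ∀ i, (as i)ᵀ * S = S * as i) (hdiag : ∃ i, ∀ j, (S * as i) j j = 0) :
    g ∈ isometryGroup F Q := by
  classical
  obtain ⟨c, hc⟩ := h.gram
  have hX : pureTensor as * pureTensor as = 0 := pureTensor_sq_zero hsq.choose_spec
  have hadj' : (pureTensor as)ᵀ * pureTensor (fun _ : Fin t => S) =
      pureTensor (fun _ : Fin t => S) * pureTensor as := by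
    rw [pureTensor_transpose, pureTensor_mul, pureTensor_mul]
    congr 1
    funext i
    exact hadj i
  refine mem_isometry_of_basis h hg ?_ fun a => ?_
  · rw [Matrix.transpose_add, Matrix.transpose_one, add_mul, one_mul, hadj', add_mul, mul_add, mul_add, mul_one,
      mul_one, mul_assoc _ (pureTensor as) (pureTensor as), hX, mul_zero, add_zero, add_assoc, ← two_smul F,
      show (2 : F) = 0 from CharTwo.two_eq_zero, zero_smul, add_zero]
  · rw [Matrix.add_mulVec, Matrix.one_mulVec, frameVec_add, NonMax.quad_add (Q := Q), pureTensor_single, h.pure,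
      ← pureTensor_single, hc, Matrix.mulVec_mulVec, pureTensor_mul]
    obtain ⟨i, hi⟩ := hdiag
    have : ((Pi.single a 1 : κ → F) ⬝ᵥ (pureTensor ((fun _ : Fin t => S) * as) *ᵥ Pi.single a 1)) = 0 := by
      rw [single_dotProduct, one_mul, Matrix.mulVec_single_one, Matrix.col_apply]
      exact Finset.prod_eq_zero (Finset.mem_univ i) (hi _)
    rw [this, mul_zero, add_zero, add_zero]

/-- `1 + x` as a commutator of isometries. -/
lemma nil_mem_omega (h : FrameForm Q e P S) {as : Fin t → Mk} {i l : Fin t} (hne : l ≠ i) (hsq : as l * as l = 0)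
    (hadj : ∀ m, (as m)ᵀ * S = S * as m) (E' : Mk) (η : GL (Fin k) F) (hη : (η : Mk)ᵀ * S * (η : Mk) = S)
    (hE' : E'ᵀ * S = S * E') (hasi : as i = (η : Mk) * E' * ((η⁻¹ : GL (Fin k) F) : Mk) + E')
    (hdiag : ∃ m, ∀ j, (S * Function.update as i E' m) j j = 0) :
    ∃ g ∈ omegaGL Q, (g : Matrix ι ι F) = framed e P (1 + pureTensor as) := by
  classical
  set bs := Function.update as i E' with hbs
  have hbl : bs l * bs l = 0 := by rw [hbs, Function.update_of_ne hne, hsq]
  have hX : pureTensor bs * pureTensor bs = 0 := pureTensor_sq_zero hbl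
  let x : GL ι F := Units.map ((framed e P).toAlgHom.toMonoidHom) (nilGL (pureTensor bs) hX)
  have hx : (x : Matrix ι ι F) = framed e P (1 + pureTensor bs) := rfl
  let us : Fin t → GL (Fin k) F := Function.update 1 i η
  let hu : GL κ F := ⟨pureTensor (fun m => (us m : Mk)), pureTensor (fun m => ((us m)⁻¹ : GL (Fin k) F)),
    by rw [pureTensor_mul, ← pureTensor_one]; congr 1; funext m; simp,
    by rw [pureTensor_mul, ← pureTensor_one]; congr 1; funext m; simp⟩
  let y : GL ι F := Units.map ((framed e P).toAlgHom.toMonoidHom) hu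
  have hy : (y : Matrix ι ι F) = framed e P (pureTensor fun m => (us m : Mk)) := rfl
  have hyiso : y ∈ isometryGroup F Q := pure_mem_isometry h hy fun m => by
    rcases eq_or_ne m i with rfl | hm
    · simpa [us] using hη
    · simp [us, Function.update_of_ne hm]
  have hxiso : x ∈ isometryGroup F Q := nil_mem_isometry h hx ⟨l, hbl⟩ (fun m => by
    rcases eq_or_ne m i with rfl | hm
    · simpa [hbs] using hE'
    · rw [hbs, Function.update_of_ne hm]; exact hadj m) hdiag
  refine ⟨⁅y, x⁆, NonMax.commutator_mem_omegaGL hyiso hxiso, ?_⟩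
  have hprod : hu * nilGL (pureTensor bs) hX * hu⁻¹ * (nilGL (pureTensor bs) hX)⁻¹ =
      hu * nilGL (pureTensor bs) hX * hu⁻¹ * nilGL (pureTensor bs) hX := by
    congr 1
  rw [commutatorElement_def]
  show (((Units.map ((framed e P).toAlgHom.toMonoidHom)) hu) * _ * _ * _ : GL ι F).val = _
  rw [← map_inv, ← map_inv, ← map_mul, ← map_mul, ← map_mul, hprod]
  show framed e P (((hu * nilGL (pureTensor bs) hX * hu⁻¹ * nilGL (pureTensor bs) hX : GL κ F)) : Matrix κ κ F) = _
  congr 1
  have hconj : pureTensor (fun m => (us m : Mk)) * pureTensor bs *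
      pureTensor (fun m => (((us m)⁻¹ : GL (Fin k) F) : Mk)) =
      pureTensor (Function.update as i ((η : Mk) * E' * ((η⁻¹ : GL (Fin k) F) : Mk))) := by
    rw [pureTensor_mul, pureTensor_mul]
    congr 1
    funext m
    rcases eq_or_ne m i with rfl | hm
    · simp [us, hbs]
    · simp [us, hbs, Function.update_of_ne hm]
  have hone : pureTensor (fun m => (us m : Mk)) * pureTensor (fun m => (((us m)⁻¹ : GL (Fin k) F) : Mk)) = 1 :=
    hu.val_inv
  have hsum : pureTensor as = pureTensor (Function.update as i ((η : Mk) * E' * ((η⁻¹ : GL (Fin k) F) : Mk))) +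
      pureTensor bs := by
    rw [hbs, ← pureTensor_update_add, ← hasi, Function.update_eq_self]
  have hcross : pureTensor (Function.update as i ((η : Mk) * E' * ((η⁻¹ : GL (Fin k) F) : Mk))) *
      pureTensor bs = 0 := by
    rw [pureTensor_mul]
    refine pureTensor_eq_zero (i := l) ?_
    rw [Pi.mul_apply, hbs, Function.update_of_ne hne, Function.update_of_ne hne, hsq]
  show pureTensor (fun m => (us m : Mk)) * (1 + pureTensor bs) *
      pureTensor (fun m => (((us m)⁻¹ : GL (Fin k) F) : Mk)) * (1 + pureTensor bs) = _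
  simp only [mul_add, add_mul, mul_one, one_mul, hone, hconj, hcross, add_zero, hsum]
  abel

/-- The local data. -/
structure LocalSpace (S : Mk) where
  W : Submodule F Mk
  E : Mk
  Fm : Mk
  E' : Mk
  η : GL (Fin k) F
  S_ne : S ≠ 0
  S_symm : Sᵀ = S
  conj_mem : ∀ a : GL (Fin k) F, (∃ μ : F, μ ≠ 0 ∧ (a : Mk)ᵀ * S * (a : Mk) = μ • S) →
    ∀ M ∈ W, (a : Mk) * M * ((a⁻¹ : GL (Fin k) F) : Mk) ∈ W
  E_mem : E ∈ W
  F_mem : Fm ∈ W
  E_scalar : ∀ M ∈ W, ∃ c : F, E * M + M * E = c • 1
  EF : E * Fm + Fm * E = 1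
  E_sq : E * E = 0
  E_adj : Eᵀ * S = S * E
  E'_adj : E'ᵀ * S = S * E'
  η_iso : (η : Mk)ᵀ * S * (η : Mk) = S
  E_eq : E = (η : Mk) * E' * ((η⁻¹ : GL (Fin k) F) : Mk) + E'
  F_off : ∃ p q, p ≠ q ∧ Fm p q ≠ 0
  E_off : ∃ p q, p ≠ q ∧ E p q ≠ 0

/-- The main construction. `bs` gives a second involution moving the sum space. -/
theorem exists_between_power [Nonempty (Fin k)] (h : FrameForm Q e P S) (L : LocalSpace S) {i₀ i₁ : Fin t} (h01 : i₀ ≠ i₁)
    (hdiag : ∃ m, ∀ j, (S * Function.update (Function.update (Function.update (1 : Fin t → Mk) i₁ L.E) i₀ L.E) i₀ L.E' m) j j = 0)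
    (bs : Fin t → Mk) (hbi : bs i₀ = L.E) (hb1 : bs i₁ * bs i₁ = 0) (hbadj : ∀ m, (bs m)ᵀ * S = S * bs m)
    (hbdiag : ∃ m, ∀ j, (S * Function.update bs i₀ L.E' m) j j = 0) {i₂ l₂ : Fin t} (hl₂ : l₂ ≠ i₂)
    (hl₂sq : bs l₂ * bs l₂ = 0)
    (hwit : ∃ (a b : κ) (l l' : Fin t), l ≠ l' ∧ a l ≠ b l ∧ a l' ≠ b l' ∧
      ∀ m, Function.update bs i₂ (bs i₂ * L.Fm + L.Fm * bs i₂) m (a m) (b m) ≠ 0)
    {H : Subgroup (GL ι F)}
    (hH : ∀ g ∈ H, g ∈ omegaGL Q ∧ ∃ u ∈ tensorWreathStandard k t F, (g : Matrix ι ι F) = framed e P (u : Matrix κ κ F)) :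
    ∃ K : Subgroup (GL ι F), H < K ∧ K < omegaGL Q := by
  classical
  let V : Submodule F (Matrix ι ι F) := (sumSpace L.W t).map (framed e P).toLinearMap
  set as : Fin t → Mk := Function.update (Function.update (1 : Fin t → Mk) i₁ L.E) i₀ L.E with has
  have has0 : as i₀ = L.E := by simp [has]
  have has1 : as i₁ = L.E := by simp [has, h01.symm]
  have hasm : ∀ m, m ≠ i₀ → m ≠ i₁ → as m = 1 := fun m hm hm' => by simp [has, hm, hm']
  have hadj : ∀ m, (as m)ᵀ * S = S * as m := fun m => by
    rcases eq_or_ne m i₀ with rfl | h0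
    · rw [has0]; exact L.E_adj
    rcases eq_or_ne m i₁ with rfl | h1
    · rw [has1]; exact L.E_adj
    · rw [hasm m h0 h1, Matrix.transpose_one, one_mul, mul_one]
  obtain ⟨g, hgΩ, hg⟩ := nil_mem_omega h (i := i₀) (l := i₁) h01.symm (by rw [has1, L.E_sq]) hadj L.E' L.η
    L.η_iso L.E'_adj (by rw [has0]; exact L.E_eq) hdiag
  obtain ⟨x, hxΩ, hx⟩ := nil_mem_omega h (as := bs) (i := i₀) (l := i₁) h01.symm hb1 hbadj L.E' L.η
    L.η_iso L.E'_adj (by rw [hbi]; exact L.E_eq) hbdiag
  have hinv : ∀ (z : GL ι F) (cs : Fin t → Mk) (m : Fin t), cs m * cs m = 0 →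
      (z : Matrix ι ι F) = framed e P (1 + pureTensor cs) →
      ((z⁻¹ : GL ι F) : Matrix ι ι F) = framed e P (1 + pureTensor cs) := by
    intro z cs m hm hz
    have : z⁻¹ = Units.map ((framed e P).toAlgHom.toMonoidHom) (nilGL _ (pureTensor_sq_zero hm)) := by
      rw [inv_eq_iff_eq_inv, ← map_inv]
      exact Units.ext hz
    rw [this]
    rfl
  have hgconj : ∀ (z : GL ι F) (cs : Fin t → Mk) (m : Fin t), cs m * cs m = 0 →
      (z : Matrix ι ι F) = framed e P (1 + pureTensor cs) → ∀ X,
      (z : Matrix ι ι F) * framed e P X * ((z⁻¹ : GL ι F) : Matrix ι ι F) =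
        framed e P ((1 + pureTensor cs) * X * (1 + pureTensor cs)) := by
    intro z cs m hm hz X
    rw [hinv z cs m hm hz, hz, map_mul, map_mul]
  have hga := hgconj g as i₁ (by rw [has1, L.E_sq]) hg
  refine NonMax.exists_between (K := omegaGL Q ⊓ conjStab V) (fun z hz => ?_) inf_le_left (g := g) ⟨hgΩ, ?_⟩ ?_
    hxΩ ?_
  · obtain ⟨hzΩ, u, hu, hzu⟩ := hH z hz
    refine ⟨hzΩ, ?_⟩
    rintro _ ⟨X, hX, rfl⟩
    obtain ⟨π, gs, hgs⟩ := exists_monoM hu
    have hziso : z ∈ isometryGroup F Q := by
      obtain ⟨w, -, rfl⟩ := hzΩ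
      exact w.2
    have hpres : (u : Matrix κ κ F)ᵀ * pureTensor (fun _ : Fin t => S) * (u : Matrix κ κ F) =
        pureTensor fun _ : Fin t => S := h.scale _ fun a b => by
      rw [← framed_mulVec, ← framed_mulVec, ← hzu]
      have hz' : ∀ v, Q ((z : Matrix ι ι F) *ᵥ v) = Q v := fun v => hziso v v
      simp only [QuadraticMap.polar, ← Matrix.mulVec_add, hz']
    rw [hgs] at hpres
    have hzi : ((z⁻¹ : GL ι F) : Matrix ι ι F) = framed e P ((u⁻¹ : GL κ F) : Matrix κ κ F) := by
      have : z = Units.map ((framed e P).toAlgHom.toMonoidHom) u := Units.ext hzu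
      rw [this, ← map_inv]
      rfl
    show (z : Matrix ι ι F) * framed e P X * _ ∈ _
    rw [hzu, hzi, ← map_mul, ← map_mul]
    refine ⟨_, ?_, rfl⟩
    refine sumSpace_induction (P := fun X => (u : Matrix κ κ F) * X * ((u⁻¹ : GL κ F) : Matrix κ κ F) ∈ sumSpace L.W t)
      (by simp) (fun a b ha hb => by simp only [mul_add, add_mul]; exact Submodule.add_mem _ ha hb) (fun i M hM => ?_) hX
    rw [hgs, monoM_factor, mul_assoc, ← hgs, Units.mul_inv, mul_one]
    exact factor_mem _ (L.conj_mem _ (similitude_of_isometry L.S_ne π _ hpres _) M hM)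
  · rintro _ ⟨X, hX, rfl⟩
    show (g : Matrix ι ι F) * framed e P X * _ ∈ _
    rw [hga]
    refine ⟨_, ?_, rfl⟩
    refine sumSpace_induction (P := fun X => (1 + pureTensor as) * X * (1 + pureTensor as) ∈ sumSpace L.W t)
      (by simp) (fun a b ha hb => by simp only [mul_add, add_mul] at *; convert Submodule.add_mem _ ha hb using 1; abel)
      (fun i M hM => ?_) hX
    obtain ⟨c, hc⟩ := L.E_scalar M hM
    rcases eq_or_ne i i₀ with rfl | h0
    · rw [nil_conj_factor h01.symm (by rw [has1, L.E_sq]), has0, hc]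
      refine Submodule.add_mem _ (factor_mem _ hM) ?_
      have : pureTensor (Function.update as i (c • (1 : Mk))) = c • factorM i₁ L.E := by
        ext a b
        simp only [factorM, pureTensor, Matrix.smul_apply, Matrix.of_apply, smul_eq_mul]
        rw [← Finset.mul_prod_erase _ _ (Finset.mem_univ i), ← Finset.mul_prod_erase _ _ (Finset.mem_univ i),
          Function.update_self, Function.update_of_ne h01, Matrix.smul_apply, smul_eq_mul, mul_assoc]
        refine congrArg (c * ·) (congrArg ((1 : Mk) (a i) (b i) * ·) (Finset.prod_congr rfl fun m hm => ?_))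
        rw [Function.update_of_ne (Finset.ne_of_mem_erase hm), has,
          Function.update_of_ne (Finset.ne_of_mem_erase hm)]
      rw [this]
      exact Submodule.smul_mem _ _ (factor_mem _ L.E_mem)
    rcases eq_or_ne i i₁ with rfl | h1
    · rw [nil_conj_factor h01 (by rw [has0, L.E_sq]), has1, hc]
      refine Submodule.add_mem _ (factor_mem _ hM) ?_
      have : pureTensor (Function.update as i (c • (1 : Mk))) = c • factorM i₀ L.E := by
        ext a b
        simp only [factorM, pureTensor, Matrix.smul_apply, Matrix.of_apply, smul_eq_mul]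
        rw [← Finset.mul_prod_erase _ _ (Finset.mem_univ i), ← Finset.mul_prod_erase _ _ (Finset.mem_univ i),
          Function.update_self, Function.update_of_ne h0, Matrix.smul_apply, smul_eq_mul, mul_assoc]
        refine congrArg (c * ·) (congrArg ((1 : Mk) (a i) (b i) * ·) (Finset.prod_congr rfl fun m hm => ?_))
        rw [Function.update_of_ne (Finset.ne_of_mem_erase hm)]
        rcases eq_or_ne m i₀ with rfl | hm0
        · rw [has0, Function.update_self]
        · rw [hasm m hm0 (Finset.ne_of_mem_erase hm), Function.update_of_ne hm0]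
          rfl
      rw [this]
      exact Submodule.smul_mem _ _ (factor_mem _ L.E_mem)
    · rw [nil_conj_factor (Ne.symm h0) (by rw [has0, L.E_sq]), hasm i h0 h1, one_mul, mul_one, ← two_smul F M,
        show (2 : F) = 0 from CharTwo.two_eq_zero, zero_smul,
        pureTensor_eq_zero (i := i) (Function.update_self ..), add_zero]
      exact factor_mem _ hM
  · intro hgH
    obtain ⟨-, u, hu, hgu⟩ := hH g hgH
    obtain ⟨π, gs, hgs⟩ := exists_monoM hu
    have hA : (1 + pureTensor as) = monoM π (fun l => (gs l : Mk)) := (framed e P).injective (by rw [← hg, hgu, hgs])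
    have hconj := monoM_factor π gs i₀ L.Fm
    set M' := (gs (π.symm i₀) : Mk) * L.Fm * (((gs (π.symm i₀))⁻¹ : GL (Fin k) F) : Mk)
    rw [← hA] at hconj
    have hkey : factorM i₀ L.Fm + pureTensor (Function.update as i₀ 1) = factorM (π.symm i₀) M' := by
      rw [← L.EF, ← has0, ← nil_conj_factor h01.symm (by rw [has1, L.E_sq]), hconj, mul_assoc]
      have hone : (1 + pureTensor as) * (1 + pureTensor as) = 1 :=
        (nilGL (pureTensor as) (pureTensor_sq_zero (i := i₁) (by rw [has1, L.E_sq]))).val_inv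
      rw [hone, mul_one]
    have hup : pureTensor (Function.update as i₀ (1 : Mk)) = factorM i₁ L.E := by
      rw [factorM, has, Function.update_idem]
      congr 1
      funext m
      rcases eq_or_ne m i₀ with rfl | hm
      · simp [Function.update_of_ne h01]
      · simp [Function.update_of_ne hm]
    rw [hup] at hkey
    obtain ⟨p, q, hpq, hFpq⟩ := L.F_off
    obtain ⟨p', q', hpq', hEpq⟩ := L.E_off
    have hj0 : π.symm i₀ = i₀ := by
      by_contra hj
      have h' := congrFun (congrFun hkey (Function.update (fun _ => p) i₀ p)) (Function.update (fun _ => p) i₀ q)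
      simp only [Matrix.add_apply, factorM_apply, Function.update_self] at h'
      rw [if_pos (fun l hl => by rw [Function.update_of_ne hl, Function.update_of_ne hl]),
        if_neg (fun hh => by simpa [hpq] using hh i₀ h01),
        if_neg (fun hh => by simpa [hpq] using hh i₀ (Ne.symm hj))] at h'
      simp [hFpq] at h'
    have h' := congrFun (congrFun hkey (Function.update (fun _ => p') i₁ p')) (Function.update (fun _ => p') i₁ q')
    simp only [Matrix.add_apply, factorM_apply, Function.update_self] at h'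
    rw [if_neg (fun hh => by simpa [hpq'] using hh i₁ h01.symm),
      if_pos (fun l hl => by rw [Function.update_of_ne hl, Function.update_of_ne hl]), hj0,
      if_neg (fun hh => by simpa [hpq'] using hh i₁ h01.symm)] at h'
    simp [hEpq] at h'
  · rintro ⟨-, hxV⟩
    obtain ⟨a, b, l, l', hll, hl, hl', hne⟩ := hwit
    have hmem := hxV _ ⟨factorM i₂ L.Fm, factor_mem _ L.F_mem, rfl⟩
    rw [show ((framed e P).toLinearMap (factorM i₂ L.Fm)) = framed e P (factorM i₂ L.Fm) from rfl,
      hgconj x bs i₁ hb1 hx, nil_conj_factor hl₂ hl₂sq] at hmem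
    obtain ⟨X, hX, hXe⟩ := hmem
    have hXe' := (framed e P).injective hXe
    subst hXe'
    have h0 := entry_eq_zero hX hll hl hl'
    rw [Matrix.add_apply, entry_eq_zero (factor_mem i₂ L.F_mem) hll hl hl', zero_add] at h0
    simp only [pureTensor, Matrix.of_apply] at h0
    exact Finset.prod_ne_zero_iff.mpr (fun m _ => hne m) h0

end Cfsg.Agent.Lib.NonMax.SympPower
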