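import Cfsg.Agent.Lib.NonMax.SympPower.Local
import Cfsg.Agent.Lib.Semisimple.SympDarboux

/-!
The tensor power stabiliser of small symplectic factors is not maximal in characteristic two.
-/

set_option autoImplicit false
set_option linter.unusedSectionVars false

namespace Cfsg.Agent.Lib.NonMax.SympPower

open Cfsg Cfsg.Geo Matrix Cfsg.Agent.Lib.Aschbacher

variable {ι : Type} [Fintype ι] [DecidableEq ι] {F : Type*} [Field F] [Fintype F] {k t : ℕ}

lemma pureTensor_pureVec (as : Fin t → Matrix (Fin k) (Fin k) F) (xs : Fin t → Fin k → F) :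
    pureTensor as *ᵥ pureVec xs = pureVec fun i => as i *ᵥ xs i := by
  ext a
  simp [pureTensor, pureVec, Matrix.mulVec, dotProduct, Fintype.prod_sum, Finset.prod_mul_distrib]

/-- A standard frame: the form, the frame and the group in the new frame. -/
theorem exists_stdFrame {Q : (ι → F) → F} (hQ : IsNondegenerateQuadraticForm Q) {e : ι ≃ (Fin t → Fin k)}
    {P : GL ι F} {f₁ : (Fin k → F) → (Fin k → F) → F}
    (hT : IsTensorPowerFormStructure id (QuadraticMap.polar Q) f₁ e P)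
    (hpure : ∀ xs : Fin t → (Fin k → F), Q ((P : Matrix ι ι F) *ᵥ ((fun a : Fin t → Fin k => ∏ i, xs i (a i)) ∘ e)) = 0)
    {S : Matrix (Fin k) (Fin k) F} (β : GL (Fin k) F)
    (hβ : (β : Matrix (Fin k) (Fin k) F)ᵀ * gramMatrix f₁ * (β : Matrix (Fin k) (Fin k) F) = S) :
    ∃ P' : GL ι F, FrameForm Q e P' S ∧ ∀ g ∈ tensorWreathSubgroup k t e P,
      ∃ u ∈ tensorWreathStandard k t F, (g : Matrix ι ι F) = framed e P' (u : Matrix _ _ F) := by
  classical
  let Bg : GL (Fin t → Fin k) F := ⟨pureTensor fun _ => (β : Matrix (Fin k) (Fin k) F),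
    pureTensor fun _ => ((β⁻¹ : GL (Fin k) F) : Matrix (Fin k) (Fin k) F),
    by rw [pureTensor_mul, ← pureTensor_one]; congr 1; funext i; simp,
    by rw [pureTensor_mul, ← pureTensor_one]; congr 1; funext i; simp⟩
  have hBg : Bg ∈ tensorWreathStandard k t F := Subgroup.subset_closure (Or.inl ⟨fun _ => β, fun x y => rfl⟩)
  let P' := P * glReindex e.symm Bg
  have hfv : ∀ y, frameVec e P' y = frameVec e P ((Bg : Matrix _ _ F) *ᵥ y) := by
    intro y
    show ((P * glReindex e.symm Bg : GL ι F) : Matrix ι ι F) *ᵥ (y ∘ e) = _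
    rw [Units.val_mul, ← Matrix.mulVec_mulVec, frameVec]
    congr 1
    show Matrix.reindex e.symm e.symm (Bg : Matrix _ _ F) *ᵥ (y ∘ e) = _
    rw [Matrix.reindex_apply, Equiv.symm_symm, Matrix.submatrix_mulVec_equiv, Function.comp_assoc,
      Equiv.self_comp_symm, Function.comp_id]
  obtain ⟨c, hc, hT⟩ := hT
  have hpol : ∀ x y : (Fin t → Fin k) → F, QuadraticMap.polar Q (frameVec e P' x) (frameVec e P' y) =
      c * (x ⬝ᵥ (pureTensor (fun _ : Fin t => S) *ᵥ y)) := by
    intro x y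
    have hS : pureTensor (fun _ : Fin t => S) = (Bg : Matrix _ _ F)ᵀ * pureTensor (fun _ : Fin t => gramMatrix f₁) *
        (Bg : Matrix _ _ F) := by
      show _ = (pureTensor fun _ => (β : Matrix (Fin k) (Fin k) F))ᵀ * _ * pureTensor _
      rw [pureTensor_transpose, pureTensor_mul, pureTensor_mul]
      congr 1
      funext i
      exact hβ.symm
    rw [hfv, hfv, frameVec, frameVec, hT, hS, ← Matrix.mulVec_mulVec, ← Matrix.mulVec_mulVec,
      Matrix.dotProduct_mulVec x _ᵀ, Matrix.vecMul_transpose]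
    congr 1
    simp [dotProduct, Matrix.mulVec, Finset.mul_sum, mul_assoc, pureTensor]
  refine ⟨P', ⟨hQ, ⟨c, hpol⟩, fun A hA => ?_, fun xs => ?_⟩, ?_⟩
  · ext a b
    have h := hA (Pi.single a 1) (Pi.single b 1)
    rw [hpol, hpol, Matrix.dotProduct_mulVec, ← Matrix.vecMul_transpose] at h
    have h' := mul_left_cancel₀ hc h
    rw [Matrix.vecMul_vecMul, ← Matrix.dotProduct_mulVec, Matrix.mulVec_mulVec] at h'
    simpa using h'
  · rw [hfv]
    show Q (frameVec e P (pureTensor _ *ᵥ pureVec xs)) = 0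
    rw [pureTensor_pureVec]
    exact hpure _
  · rintro _ ⟨_, ⟨u, hu, rfl⟩, rfl⟩
    refine ⟨Bg⁻¹ * u * Bg, Subgroup.mul_mem _ (Subgroup.mul_mem _ (Subgroup.inv_mem _ hBg) hu) hBg, ?_⟩
    have hgl : (MulAut.conj P).toMonoidHom ((glReindex e.symm).toMonoidHom u) =
        P' * glReindex e.symm (Bg⁻¹ * u * Bg) * P'⁻¹ := by
      simp [P', mul_assoc]
    rw [hgl, Units.val_mul, Units.val_mul, framed_apply]
    rfl

lemma exists_std_gram {f₁ : (Fin k → F) → (Fin k → F) → F} (hf₁ : IsSymplecticForm f₁) :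
    ∃ (b : ℕ) (hb : b + b = k) (β : GL (Fin k) F),
      (β : Matrix (Fin k) (Fin k) F)ᵀ * gramMatrix f₁ * (β : Matrix (Fin k) (Fin k) F) =
        Matrix.reindex (finSumFinEquiv.trans (finCongr hb)) (finSumFinEquiv.trans (finCongr hb))
          (Matrix.J (Fin b) F) := by
  obtain ⟨G, hfG, hG⟩ := exists_gram_bilinear hf₁.bilinear hf₁.nondegenerate
  have halt : Semisimple.IsAltMat (G : Matrix (Fin k) (Fin k) F) := fun v => by
    have h := hf₁.alternating v
    rw [hfG] at h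
    simpa [formM] using h
  obtain ⟨b, hb, Qm, R, hQR, hRQ, hH⟩ := Semisimple.darboux _ halt G.isUnit
  set e' := finSumFinEquiv.trans (finCongr hb)
  refine ⟨b, hb, ⟨R.submatrix id e'.symm, Qm.submatrix e'.symm id, ?_, ?_⟩, ?_⟩
  · rw [Matrix.submatrix_mul_equiv, hRQ, Matrix.submatrix_id_id]
  · rw [← Matrix.submatrix_mul _ _ _ id _ Function.bijective_id, hQR, Matrix.submatrix_one_equiv]
  · show (R.submatrix id e'.symm)ᵀ * gramMatrix f₁ * R.submatrix id e'.symm = _
    rw [← hG, ← hH, Matrix.transpose_submatrix, Matrix.reindex_apply]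
    conv_lhs => rw [← Matrix.submatrix_id_id (Qmᵀ * Matrix.J (Fin b) F * Qm)]
    rw [← Matrix.submatrix_mul _ _ _ id _ Function.bijective_id,
      ← Matrix.submatrix_mul _ _ _ id _ Function.bijective_id,
      show Rᵀ * (Qmᵀ * Matrix.J (Fin b) F * Qm) * R = (Qm * R)ᵀ * Matrix.J (Fin b) F * (Qm * R) by
        simp only [Matrix.transpose_mul, Matrix.mul_assoc],
      hQR, Matrix.transpose_one, Matrix.one_mul, Matrix.mul_one]

lemma alt_entry_update {d : ℕ} (as : Fin t → Matrix (Fin d) (Fin d) F) (a b : Fin t → Fin d)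
    (h : ∀ m, as m (a m) (b m) ≠ 0) {l : Fin t} (A : Matrix (Fin d) (Fin d) F) (hA : A (a l) (b l) ≠ 0) :
    ∀ m, Function.update as l A m (a m) (b m) ≠ 0 := fun m => by
  rcases eq_or_ne m l with rfl | hm
  · rwa [Function.update_self]
  · rw [Function.update_of_ne hm]; exact h m

theorem exists_between_two [CharP F 2] {Q : (ι → F) → F} {e : ι ≃ (Fin t → Fin 2)} {P : GL ι F}
    (h : FrameForm Q e P (gramTwo F)) (ht : 4 ≤ t) (hq : 2 < Fintype.card F) {H : Subgroup (GL ι F)}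
    (hH : ∀ g ∈ H, g ∈ omegaGL Q ∧ ∃ u ∈ tensorWreathStandard 2 t F, (g : Matrix ι ι F) = framed e P (u : Matrix _ _ F)) :
    ∃ K : Subgroup (GL ι F), H < K ∧ K < omegaGL Q := by
  classical
  obtain ⟨l, hl0, hl1⟩ : ∃ l : F, l ≠ 0 ∧ l ≠ 1 := by
    by_contra hc
    push Not at hc
    have : (Finset.univ : Finset F) ⊆ {0, 1} := fun x _ => by
      rcases eq_or_ne x 0 with rfl | hx
      · simp
      · simp [hc x hx]
    have h' := Finset.card_le_card this
    rw [Finset.card_univ, Finset.card_pair zero_ne_one] at h'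
    omega
  have hne : l * l + 1 ≠ 0 := by
    intro h0
    apply hl1
    have h0' := CharTwo.add_eq_zero.1 h0
    have : (l + 1) * (l + 1) = 0 := by
      rw [add_mul_self_eq, CharTwo.two_eq_zero]
      simp [h0', CharTwo.add_self_eq_zero]
    exact CharTwo.add_eq_zero.1 (mul_self_eq_zero.1 this)
  obtain ⟨L⟩ := localTwo (F := F) (μ := (l * l + 1)⁻¹) hl0 (by
    rw [show ∀ m : F, l * m * l + m = (l * l + 1) * m from fun m => by ring, mul_inv_cancel₀ hne])
  obtain ⟨p, q, hpq, hE⟩ := L.E_off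
  set i₀ : Fin t := ⟨0, by omega⟩
  set i₁ : Fin t := ⟨1, by omega⟩
  set i₂ : Fin t := ⟨2, by omega⟩
  set i₃ : Fin t := ⟨3, by omega⟩
  have h01 : i₀ ≠ i₁ := by simp [i₀, i₁]
  have h02 : i₀ ≠ i₂ := by simp [i₀, i₂]
  have h12 : i₁ ≠ i₂ := by simp [i₁, i₂]
  have h30 : i₃ ≠ i₀ := by simp [i₀, i₃]
  have h31 : i₃ ≠ i₁ := by simp [i₁, i₃]
  have h32 : i₃ ≠ i₂ := by simp [i₂, i₃]
  have hd1 : ∀ j, (gramTwo F * (1 : Matrix (Fin 2) (Fin 2) F)) j j = 0 := fun j => by
    fin_cases j <;> simp [gramTwo]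
  refine exists_between_power h L h01
    ⟨i₃, fun j => by simpa [h30, h31] using hd1 j⟩
    (Function.update (Function.update (Function.update 1 i₂ L.E) i₁ L.E) i₀ L.E)
    (by simp) (by simp [h01.symm, L.E_sq]) (fun m => ?_)
    ⟨i₃, fun j => by simpa [h30, h31, h32] using hd1 j⟩ (i₂ := i₂) (l₂ := i₀) h02 (by simp [L.E_sq]) ?_ hH
  · rcases eq_or_ne m i₀ with rfl | h0
    · simpa using L.E_adj
    rcases eq_or_ne m i₁ with rfl | h1
    · simpa [h0] using L.E_adj
    rcases eq_or_ne m i₂ with rfl | h2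
    · simpa [h0, h1] using L.E_adj
    · simp [h0, h1, h2]
  · refine ⟨fun _ => p, Function.update (Function.update (fun _ => p) i₁ q) i₀ q, i₀, i₁, h01, by simp [hpq],
      by simp [h01.symm, hpq], fun m => ?_⟩
    rcases eq_or_ne m i₂ with rfl | h2
    · simp [Function.update_of_ne h02.symm, Function.update_of_ne h12.symm, L.EF]
    rcases eq_or_ne m i₀ with rfl | h0
    · simp [h2, hE]
    rcases eq_or_ne m i₁ with rfl | h1
    · simp [h2, h0, hE]
    · simp [h2, h0, h1]

theorem exists_between_four [CharP F 2] {Q : (ι → F) → F} {e : ι ≃ (Fin t → Fin 4)} {P : GL ι F}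
    (h : FrameForm Q e P (gramFour F)) (ht : 2 ≤ t) {H : Subgroup (GL ι F)}
    (hH : ∀ g ∈ H, g ∈ omegaGL Q ∧ ∃ u ∈ tensorWreathStandard 4 t F, (g : Matrix ι ι F) = framed e P (u : Matrix _ _ F)) :
    ∃ K : Subgroup (GL ι F), H < K ∧ K < omegaGL Q := by
  classical
  obtain ⟨L, hE', hFm⟩ := localFour (F := F)
  obtain ⟨p, q, hpq, hE⟩ := L.E_off
  set i₀ : Fin t := ⟨0, by omega⟩
  set i₁ : Fin t := ⟨1, by omega⟩
  have h01 : i₀ ≠ i₁ := by simp [i₀, i₁]
  let X : Matrix (Fin 4) (Fin 4) F := !![0, 0, 1, 0; 0, 0, 0, 0; 0, 0, 0, 0; 0, 0, 0, 0]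
  refine exists_between_power h L h01 ⟨i₀, fun j => by simpa using hE' j⟩
    (Function.update (Function.update 1 i₁ X) i₀ L.E) (by simp) ?_ (fun m => ?_)
    ⟨i₀, fun j => by simpa using hE' j⟩ (i₂ := i₁) (l₂ := i₀) h01 (by simp [L.E_sq]) ?_ hH
  · simp only [Function.update_of_ne h01.symm, Function.update_self]
    ext i j
    fin_cases i <;> fin_cases j <;> simp [X, Matrix.mul_apply, Fin.sum_univ_four]
  · rcases eq_or_ne m i₀ with rfl | h0
    · simpa using L.E_adj
    rcases eq_or_ne m i₁ with rfl | h1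
    · simp only [Function.update_of_ne h0, Function.update_self]
      ext i j
      fin_cases i <;> fin_cases j <;> simp [X, gramFour, Matrix.mul_apply, Fin.sum_univ_four]
    · simp [h0, h1]
  · refine ⟨Function.update (Function.update (fun _ => p) i₁ 0) i₀ p, Function.update (Function.update (fun _ => p) i₁ 3) i₀ q,
      i₀, i₁, h01, by simp [hpq], by simp [h01.symm], fun m => ?_⟩
    rcases eq_or_ne m i₀ with rfl | h0
    · simp [h01, hE]
    rcases eq_or_ne m i₁ with rfl | h1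
    · simp [Function.update_of_ne h01.symm, hFm, X, Matrix.mul_apply, Fin.sum_univ_four]
    · simp [h0, h1]

theorem exists_between_small [CharP F 2] (hn : 13 ≤ Fintype.card ι) {Q : (ι → F) → F}
    (hQ : IsNondegenerateQuadraticForm Q) (ht : 2 ≤ t) (hk : k ≤ 4) (hex : ¬ (Fintype.card F = 2 ∧ k = 2))
    {e : ι ≃ (Fin t → Fin k)} {P : GL ι F} {f₁ : (Fin k → F) → (Fin k → F) → F} (hf₁ : IsSymplecticForm f₁)
    (hT : IsTensorPowerFormStructure id (QuadraticMap.polar Q) f₁ e P)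
    (hpure : ∀ xs : Fin t → (Fin k → F), Q ((P : Matrix ι ι F) *ᵥ ((fun a : Fin t → Fin k => ∏ i, xs i (a i)) ∘ e)) = 0) :
    ∃ K : Subgroup (GL ι F), tensorWreathSubgroup k t e P ⊓ omegaGL Q < K ∧ K < omegaGL Q := by
  classical
  obtain ⟨b, hb, β, hβ⟩ := exists_std_gram hf₁
  have hcard : Fintype.card ι = k ^ t := by simpa using Fintype.card_congr e
  have hb' : b = 0 ∨ b = 1 ∨ b = 2 := by omega
  rcases hb' with rfl | rfl | rfl
  · obtain rfl : k = 0 := by omega
    rw [hcard, zero_pow (by omega)] at hn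
    omega
  · obtain rfl : k = 2 := by omega
    have ht4 : 4 ≤ t := by
      by_contra h
      have : 2 ^ t ≤ 2 ^ 3 := Nat.pow_le_pow_right two_pos (by omega)
      rw [hcard] at hn
      omega
    have hS : (β : Matrix (Fin 2) (Fin 2) F)ᵀ * gramMatrix f₁ * (β : Matrix (Fin 2) (Fin 2) F) = gramTwo F := by
      rw [hβ]
      ext i j
      fin_cases i <;> fin_cases j <;> simp [gramTwo, Matrix.J, finSumFinEquiv, Fin.addCases, CharTwo.neg_eq]
    obtain ⟨P', hP', hH⟩ := exists_stdFrame hQ hT hpure β hS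
    refine exists_between_two hP' ht4 ?_ fun g hg => ⟨hg.2, hH g hg.1⟩
    have := Fintype.one_lt_card (α := F)
    have : Fintype.card F ≠ 2 := fun h => hex ⟨h, rfl⟩
    omega
  · obtain rfl : k = 4 := by omega
    have hS : (β : Matrix (Fin 4) (Fin 4) F)ᵀ * gramMatrix f₁ * (β : Matrix (Fin 4) (Fin 4) F) = gramFour F := by
      rw [hβ]
      ext i j
      fin_cases i <;> fin_cases j <;> simp [gramFour, Matrix.J, finSumFinEquiv, Fin.addCases, CharTwo.neg_eq]
    obtain ⟨P', hP', hH⟩ := exists_stdFrame hQ hT hpure β hS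
    exact exists_between_four hP' ht fun g hg => ⟨hg.2, hH g hg.1⟩

end Cfsg.Agent.Lib.NonMax.SympPower
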