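import Cfsg.Agent.Lib.NonMax.SympPower.Between

/-!
The local spaces for factors of dimension two and four: the scalars plus the natural orthogonal module.
-/

set_option autoImplicit false
set_option linter.unusedSectionVars false

namespace Cfsg.Agent.Lib.NonMax.SympPower

open Cfsg Cfsg.Geo Matrix

variable {F : Type*} [Field F] [CharP F 2]

/-- The hyperbolic plane Gram matrix. -/
def gramTwo (F : Type*) [Field F] : Matrix (Fin 2) (Fin 2) F := !![0, 1; 1, 0]

/-- The Gram matrix of a symplectic four-space in characteristic two. -/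
def gramFour (F : Type*) [Field F] : Matrix (Fin 4) (Fin 4) F :=
  !![0, 0, 1, 0; 0, 0, 0, 1; 1, 0, 0, 0; 0, 1, 0, 0]

/-- Matrices of trace zero in dimension two. -/
def wTwo (F : Type*) [Field F] [CharP F 2] : Submodule F (Matrix (Fin 2) (Fin 2) F) :=
  LinearMap.ker (Matrix.traceLinearMap (Fin 2) F F)

lemma mem_wTwo {M : Matrix (Fin 2) (Fin 2) F} : M ∈ wTwo F ↔ M.trace = 0 := LinearMap.mem_ker

theorem localTwo {μ l : F} (hl : l ≠ 0) (hμ : l * μ * l + μ = 1) : Nonempty (LocalSpace (gramTwo F)) := by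
  have h2 : (2 : F) = 0 := CharTwo.two_eq_zero
  have h11 : (1 : F) + 1 = 0 := by rw [one_add_one_eq_two, h2]
  refine ⟨{
    W := wTwo F, E := !![0, 1; 0, 0], Fm := !![0, 0; 1, 0], E' := !![0, μ; 0, 0],
    η := ⟨!![l, 0; 0, l⁻¹], !![l⁻¹, 0; 0, l],
      by ext i j; fin_cases i <;> fin_cases j <;> simp [Matrix.mul_apply, Fin.sum_univ_two, hl],
      by ext i j; fin_cases i <;> fin_cases j <;> simp [Matrix.mul_apply, Fin.sum_univ_two, hl]⟩
    S_ne := fun h => by simpa [gramTwo] using congrFun (congrFun h 0) 1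
    S_symm := by ext i j; fin_cases i <;> fin_cases j <;> simp [gramTwo]
    conj_mem := ?_, E_mem := ?_, F_mem := ?_, E_scalar := ?_, EF := ?_, E_sq := ?_, E_adj := ?_, E'_adj := ?_,
    η_iso := ?_, E_eq := ?_
    F_off := ⟨1, 0, by decide, by simp⟩
    E_off := ⟨0, 1, by decide, by simp⟩ }⟩
  · intro a _ M hM
    rw [mem_wTwo] at hM ⊢
    rw [Matrix.trace_units_conj, hM]
  · rw [mem_wTwo]; simp [Matrix.trace_fin_two]
  · rw [mem_wTwo]; simp [Matrix.trace_fin_two]
  · intro M hM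
    rw [mem_wTwo, Matrix.trace_fin_two, CharTwo.add_eq_zero] at hM
    refine ⟨M 1 0, ?_⟩
    ext i j
    fin_cases i <;> fin_cases j <;> simp [Matrix.mul_apply, Matrix.vecMul, dotProduct, Fin.sum_univ_two, hM, CharTwo.add_self_eq_zero]
  · ext i j; fin_cases i <;> fin_cases j <;> simp [Matrix.mul_apply, Fin.sum_univ_two]
  · ext i j; fin_cases i <;> fin_cases j <;> simp [Matrix.mul_apply, Fin.sum_univ_two]
  · ext i j; fin_cases i <;> fin_cases j <;> simp [Matrix.mul_apply, Fin.sum_univ_two, gramTwo]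
  · ext i j; fin_cases i <;> fin_cases j <;> simp [Matrix.mul_apply, Fin.sum_univ_two, gramTwo]
  · ext i j; fin_cases i <;> fin_cases j <;> simp [Matrix.mul_apply, Fin.sum_univ_two, gramTwo, hl]
  · ext i j
    fin_cases i <;> fin_cases j <;> simp [Matrix.mul_apply, Fin.sum_univ_two, Units.inv_mk, hμ]

/-- A square matrix all of whose values `v ↦ vᵀ A v` vanish. -/
def altSub (k : ℕ) (F : Type*) [Field F] : Submodule F (Matrix (Fin k) (Fin k) F) where
  carrier := {A | ∀ v : Fin k → F, v ⬝ᵥ (A *ᵥ v) = 0}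
  add_mem' {A B} hA hB v := by rw [Matrix.add_mulVec, dotProduct_add, hA v, hB v, add_zero]
  zero_mem' v := by simp
  smul_mem' c A hA v := by rw [Matrix.smul_mulVec, dotProduct_smul, hA v, smul_zero]

lemma alt_diag {k : ℕ} {A : Matrix (Fin k) (Fin k) F} (h : A ∈ altSub k F) (i : Fin k) : A i i = 0 := by
  have := h (Pi.single i 1)
  rwa [single_dotProduct, one_mul, Matrix.mulVec_single_one] at this

lemma alt_symm {k : ℕ} {A : Matrix (Fin k) (Fin k) F} (h : A ∈ altSub k F) (i j : Fin k) : A i j = A j i := by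
  have h' := h (Pi.single i 1 + Pi.single j 1)
  simp only [Matrix.mulVec_add, add_dotProduct, dotProduct_add, single_dotProduct, one_mul,
    Matrix.mulVec_single_one, Matrix.col_apply, alt_diag h, zero_add, add_zero] at h'
  rw [← CharTwo.add_eq_zero]
  linear_combination h'

/-- `M` with `S M` alternating and half trace zero. -/
def wFour (F : Type*) [Field F] [CharP F 2] : Submodule F (Matrix (Fin 4) (Fin 4) F) where
  carrier := {M | gramFour F * M ∈ altSub 4 F ∧ M 0 0 = M 1 1}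
  add_mem' {A B} hA hB := ⟨by rw [mul_add]; exact Submodule.add_mem _ hA.1 hB.1, by
    simp only [Matrix.add_apply, hA.2, hB.2]⟩
  zero_mem' := ⟨by rw [mul_zero]; exact Submodule.zero_mem _, rfl⟩
  smul_mem' c A hA := ⟨by rw [Matrix.mul_smul]; exact Submodule.smul_mem _ c hA.1, by
    simp only [Matrix.smul_apply, hA.2]⟩

lemma alt_entries {M : Matrix (Fin 4) (Fin 4) F} (h : gramFour F * M ∈ altSub 4 F) :
    M 2 0 = 0 ∧ M 3 1 = 0 ∧ M 0 2 = 0 ∧ M 1 3 = 0 ∧ M 2 1 = M 3 0 ∧ M 2 2 = M 0 0 ∧ M 2 3 = M 1 0 ∧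
      M 3 2 = M 0 1 ∧ M 3 3 = M 1 1 ∧ M 0 3 = M 1 2 := by
  have d0 := alt_diag h 0
  have d1 := alt_diag h 1
  have d2 := alt_diag h 2
  have d3 := alt_diag h 3
  have s01 := alt_symm h 0 1
  have s02 := alt_symm h 0 2
  have s03 := alt_symm h 0 3
  have s12 := alt_symm h 1 2
  have s13 := alt_symm h 1 3
  have s23 := alt_symm h 2 3
  simp [gramFour, Matrix.mul_apply, Fin.sum_univ_four] at d0 d1 d2 d3 s01 s02 s03 s12 s13 s23
  exact ⟨d0, d1, d2, d3, s01, s02, s03, s12, s13, s23⟩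

lemma wFour_sq {M : Matrix (Fin 4) (Fin 4) F} (h : M ∈ wFour F) : ∃ c : F, M * M = c • 1 := by
  obtain ⟨h0, h1, h2', h3, h4, h5, h6, h7, h8, h9⟩ := alt_entries h.1
  refine ⟨M 0 0 * M 0 0 + M 0 1 * M 1 0 + M 0 3 * M 3 0, ?_⟩
  ext i j
  fin_cases i <;> fin_cases j <;>
    simp [Matrix.mul_apply, Fin.sum_univ_four, h0, h1, h2', h3, h4, h5, h6, h7, h8, h9, h.2] <;>
    ring_nf <;> simp [CharTwo.two_eq_zero]

lemma wFour_of_sq {M : Matrix (Fin 4) (Fin 4) F} (h : gramFour F * M ∈ altSub 4 F) {c : F}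
    (hc : M * M = c • 1) : M ∈ wFour F := by
  obtain ⟨h0, h1, h2', h3, h4, h5, h6, h7, h8, h9⟩ := alt_entries h
  refine ⟨h, ?_⟩
  have e0 := congrFun (congrFun hc 0) 0
  have e1 := congrFun (congrFun hc 1) 1
  simp [Matrix.mul_apply, Fin.sum_univ_four, h0, h1, h2', h3, h4, h5, h6, h7, h8, h9] at e0 e1
  have h2 : (2 : F) = 0 := CharTwo.two_eq_zero
  have hsq : (M 0 0 + M 1 1) * (M 0 0 + M 1 1) = 0 := by
    linear_combination e0 - e1 + (M 0 0 * M 1 1 + M 1 1 * M 1 1) * h2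
  exact CharTwo.add_eq_zero.1 (mul_self_eq_zero.1 hsq)

theorem localFour : ∃ L : LocalSpace (gramFour F), (∀ j, (gramFour F * L.E') j j = 0) ∧
    L.Fm = !![0, 0, 0, 0; 1, 0, 0, 0; 0, 0, 0, 1; 0, 0, 0, 0] := by
  have h2 : (2 : F) = 0 := CharTwo.two_eq_zero
  have h11 : (1 : F) + 1 = 0 := by rw [one_add_one_eq_two, h2]
  let N : Matrix (Fin 4) (Fin 4) F := !![1, 0, 1, 0; 0, 1, 0, 0; 0, 0, 1, 0; 0, 0, 0, 1]
  have hNN : N * N = 1 := by
    ext i j; fin_cases i <;> fin_cases j <;> simp [N, Matrix.mul_apply, Fin.sum_univ_four, h11]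
  refine ⟨{
    W := wFour F
    E := !![0, 1, 0, 0; 0, 0, 0, 0; 0, 0, 0, 0; 0, 0, 1, 0]
    Fm := !![0, 0, 0, 0; 1, 0, 0, 0; 0, 0, 0, 1; 0, 0, 0, 0]
    E' := !![0, 0, 0, 0; 0, 0, 0, 0; 0, 1, 0, 0; 1, 0, 0, 0]
    η := ⟨N, N, hNN, hNN⟩
    S_ne := fun h => by simpa [gramFour] using congrFun (congrFun h 0) 2
    S_symm := by ext i j; fin_cases i <;> fin_cases j <;> simp [gramFour]
    conj_mem := ?_, E_mem := ?_, F_mem := ?_, E_scalar := ?_, EF := ?_, E_sq := ?_, E_adj := ?_, E'_adj := ?_,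
    η_iso := ?_, E_eq := ?_
    F_off := ⟨1, 0, by decide, by simp⟩
    E_off := ⟨0, 1, by decide, by simp⟩ }, fun j => ?_, rfl⟩
  rotate_right
  · fin_cases j <;> simp [gramFour, Matrix.mul_apply, Fin.sum_univ_four]
  · rintro a ⟨μ, -, ha⟩ M hM
    obtain ⟨c, hc⟩ := wFour_sq hM
    refine wFour_of_sq (c := c) ?_ ?_
    · set b : Matrix (Fin 4) (Fin 4) F := ((a⁻¹ : GL (Fin 4) F) : Matrix (Fin 4) (Fin 4) F) with hb
      have hab : (a : Matrix (Fin 4) (Fin 4) F) * b = 1 := a.mul_inv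
      have e : gramFour F * (a : Matrix (Fin 4) (Fin 4) F) = μ • (bᵀ * gramFour F) := by
        rw [← Matrix.mul_smul, ← ha, ← mul_assoc, ← mul_assoc, ← Matrix.transpose_mul, hab, Matrix.transpose_one,
          one_mul]
      intro v
      rw [← mul_assoc, ← mul_assoc, e, Matrix.smul_mul, Matrix.smul_mul, Matrix.smul_mulVec, dotProduct_smul,
        mul_assoc bᵀ, ← Matrix.mulVec_mulVec, ← Matrix.mulVec_mulVec, Matrix.dotProduct_mulVec v bᵀ,
        Matrix.vecMul_transpose, hM.1 _, smul_zero]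
    · calc (a : Matrix (Fin 4) (Fin 4) F) * M * ((a⁻¹ : GL (Fin 4) F) : Matrix (Fin 4) (Fin 4) F) *
            ((a : Matrix (Fin 4) (Fin 4) F) * M * ((a⁻¹ : GL (Fin 4) F) : Matrix (Fin 4) (Fin 4) F))
          = (a : Matrix (Fin 4) (Fin 4) F) * (M * (((a⁻¹ : GL (Fin 4) F) : Matrix (Fin 4) (Fin 4) F) *
            (a : Matrix (Fin 4) (Fin 4) F)) * M) * ((a⁻¹ : GL (Fin 4) F) : Matrix (Fin 4) (Fin 4) F) := by
            simp only [mul_assoc]
        _ = c • 1 := by rw [Units.inv_mul, mul_one, hc, Matrix.mul_smul, mul_one, Matrix.smul_mul, Units.mul_inv]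
  · refine ⟨fun v => ?_, by simp⟩
    simp [gramFour, dotProduct, Matrix.mulVec, Matrix.mul_apply, Fin.sum_univ_four, mul_comm,
      CharTwo.add_self_eq_zero]
  · refine ⟨fun v => ?_, by simp⟩
    simp [gramFour, dotProduct, Matrix.mulVec, Matrix.mul_apply, Fin.sum_univ_four, mul_comm,
      CharTwo.add_self_eq_zero]
  · intro M hM
    obtain ⟨h0, h1, h2', h3, h4, h5, h6, h7, h8, h9⟩ := alt_entries hM.1
    refine ⟨M 1 0, ?_⟩
    ext i j
    fin_cases i <;> fin_cases j <;>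
      simp [Matrix.mul_apply, Matrix.vecMul, dotProduct, Fin.sum_univ_four, h0, h1, h2', h3, h4, h5, h6, h7, h8, h9,
        hM.2, CharTwo.add_self_eq_zero]
  · ext i j; fin_cases i <;> fin_cases j <;> simp [Matrix.mul_apply, Fin.sum_univ_four]
  · ext i j; fin_cases i <;> fin_cases j <;> simp [Matrix.mul_apply, Fin.sum_univ_four]
  · ext i j; fin_cases i <;> fin_cases j <;> simp [Matrix.mul_apply, Fin.sum_univ_four, gramFour]
  · ext i j; fin_cases i <;> fin_cases j <;> simp [Matrix.mul_apply, Fin.sum_univ_four, gramFour]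
  · ext i j; fin_cases i <;> fin_cases j <;> simp [N, Matrix.mul_apply, Fin.sum_univ_four, gramFour, h11]
  · ext i j
    fin_cases i <;> fin_cases j <;> simp [N, Matrix.mul_apply, Fin.sum_univ_four, Units.inv_mk, h11]

end Cfsg.Agent.Lib.NonMax.SympPower
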