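import Cfsg.Agent.Lib.NonMax.OrthTools
import Cfsg.Agent.Lib.Aschbacher.Linear
import Cfsg.Agent.Lib.Aschbacher.TensorForm

/-!
Pure tensor operators on `(F^k)^{⊗t}` and the sum of local operator spaces.
-/

set_option autoImplicit false
set_option linter.unusedSectionVars false

namespace Cfsg.Agent.Lib.NonMax.SympPower

open Cfsg Cfsg.Geo Matrix Cfsg.Agent.Lib.Aschbacher

variable {F : Type*} [Field F] {k t : ℕ}

local notation "κ" => (Fin t → Fin k)
local notation "Mk" => Matrix (Fin k) (Fin k) F

lemma pureTensor_update_add (as : Fin t → Mk) (i : Fin t) (A B : Mk) :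
    pureTensor (Function.update as i (A + B)) =
      pureTensor (Function.update as i A) + pureTensor (Function.update as i B) := by
  classical
  ext x y
  simp only [pureTensor, Matrix.of_apply, Matrix.add_apply]
  rw [← Finset.mul_prod_erase _ _ (Finset.mem_univ i), ← Finset.mul_prod_erase _ _ (Finset.mem_univ i),
    ← Finset.mul_prod_erase _ _ (Finset.mem_univ i), Function.update_self, Function.update_self, Function.update_self,
    Matrix.add_apply, add_mul]
  congr 1 <;> congr 1 <;> refine Finset.prod_congr rfl fun l hl => ?_ <;>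
    rw [Function.update_of_ne (Finset.ne_of_mem_erase hl), Function.update_of_ne (Finset.ne_of_mem_erase hl)]

lemma pureTensor_eq_zero {as : Fin t → Mk} {i : Fin t} (h : as i = 0) : pureTensor as = 0 := by
  ext x y
  simp only [pureTensor, Matrix.of_apply, Matrix.zero_apply]
  exact Finset.prod_eq_zero (Finset.mem_univ i) (by rw [h]; rfl)

lemma pureTensor_sq_zero {as : Fin t → Mk} {i : Fin t} (h : as i * as i = 0) :
    pureTensor as * pureTensor as = 0 := by
  rw [pureTensor_mul]
  exact pureTensor_eq_zero (i := i) (by rw [Pi.mul_apply, h])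

/-- The embedding in a factor as a linear map. -/
def factorL (i : Fin t) : Mk →ₗ[F] Matrix κ κ F where
  toFun := factorM i
  map_add' := pureTensor_update_add _ i
  map_smul' c a := by
    ext x y
    simp [factorM_apply, mul_assoc]

/-- The sum of the copies of `W` in the factors. -/
def sumSpace (W : Submodule F Mk) (t : ℕ) : Submodule F (Matrix (Fin t → Fin k) (Fin t → Fin k) F) :=
  ⨆ i : Fin t, W.map (factorL i)

lemma factor_mem {W : Submodule F Mk} (i : Fin t) {M : Mk} (hM : M ∈ W) : factorM i M ∈ sumSpace W t :=
  (le_iSup (fun i : Fin t => W.map (factorL i)) i) ⟨M, hM, rfl⟩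

theorem sumSpace_induction {W : Submodule F Mk} {P : Matrix κ κ F → Prop} (h0 : P 0)
    (hadd : ∀ x y, P x → P y → P (x + y)) (hf : ∀ i M, M ∈ W → P (factorM i M))
    {x : Matrix κ κ F} (hx : x ∈ sumSpace W t) : P x := by
  refine Submodule.iSup_induction (fun i : Fin t => W.map (factorL i)) (motive := P) hx ?_ h0 hadd
  rintro i _ ⟨M, hM, rfl⟩
  exact hf i M hM

/-- Entries between indices differing in two places vanish on the sum space. -/
lemma entry_eq_zero {W : Submodule F Mk} {X : Matrix κ κ F} (hX : X ∈ sumSpace W t) {a b : κ} {l l' : Fin t}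
    (hne : l ≠ l') (hl : a l ≠ b l) (hl' : a l' ≠ b l') : X a b = 0 := by
  refine sumSpace_induction (P := fun X => X a b = 0) (by simp) (fun x y hx hy => by simp [hx, hy])
    (fun i M _ => ?_) hX
  rw [factorM_apply, if_neg, mul_zero]
  intro h
  rcases eq_or_ne l i with rfl | hli
  · exact hl' (h l' hne.symm)
  · exact hl (h l hli)

/-- An involution `1 + x`, `x² = 0`, in characteristic two. -/
def nilGL [CharP F 2] {ι : Type} [Fintype ι] [DecidableEq ι] (X : Matrix ι ι F) (hX : X * X = 0) : GL ι F where
  val := 1 + X
  inv := 1 + X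
  val_inv := by
    rw [add_mul, mul_add, mul_add, hX, one_mul, one_mul, mul_one, add_zero, add_assoc, ← two_smul F X,
      show (2 : F) = 0 from CharTwo.two_eq_zero, zero_smul, add_zero]
  inv_val := by
    rw [add_mul, mul_add, mul_add, hX, one_mul, one_mul, mul_one, add_zero, add_assoc, ← two_smul F X,
      show (2 : F) = 0 from CharTwo.two_eq_zero, zero_smul, add_zero]

/-- The conjugation stabiliser of a space of matrices. -/
def conjStab {ι : Type} [Fintype ι] [DecidableEq ι] [Fintype F] (V : Submodule F (Matrix ι ι F)) :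
    Subgroup (GL ι F) where
  carrier := {g | ∀ X ∈ V, (g : Matrix ι ι F) * X * ((g⁻¹ : GL ι F) : Matrix ι ι F) ∈ V}
  one_mem' X hX := by simpa using hX
  mul_mem' {a b} ha hb := fun X hX => by
    have := ha _ (hb X hX)
    simpa [_root_.mul_inv_rev, mul_assoc] using this
  inv_mem' {a} ha := by
    have hpow : ∀ n : ℕ, ∀ X ∈ V, ((a ^ n : GL ι F) : Matrix ι ι F) * X * (((a ^ n)⁻¹ : GL ι F) : Matrix ι ι F) ∈ V := by
      intro n
      induction n with
      | zero => intro X hX; simpa using hX
      | succ n ih =>
        intro X hX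
        have := ih _ (ha X hX)
        simpa [pow_succ, _root_.mul_inv_rev, mul_assoc] using this
    haveI : Finite (GL ι F) := inferInstance
    have h : a⁻¹ = a ^ (orderOf a - 1) := by
      refine inv_eq_of_mul_eq_one_right ?_
      rw [← pow_succ', Nat.sub_add_cancel (orderOf_pos a), pow_orderOf_eq_one]
    intro X hX
    rw [h]
    exact hpow _ X hX

/-- Conjugating a factor by a monomial tensor. -/
lemma monoM_factor (π : Equiv.Perm (Fin t)) (gs : Fin t → GL (Fin k) F) (i : Fin t) (M : Mk) :
    monoM π (fun l => (gs l : Mk)) * factorM i M =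
      factorM (π.symm i) ((gs (π.symm i) : Mk) * M * (((gs (π.symm i))⁻¹ : GL (Fin k) F) : Mk)) *
        monoM π (fun l => (gs l : Mk)) := by
  classical
  rw [factorM, factorM, ← monoM_refl, ← monoM_refl, monoM_mul, monoM_mul, Equiv.trans_refl, Equiv.refl_trans]
  congr 1
  funext l
  simp only [Equiv.refl_apply]
  rcases eq_or_ne l (π.symm i) with rfl | h
  · rw [Equiv.apply_symm_apply, Function.update_self, Function.update_self, mul_assoc _ _ (gs _ : Mk),
      Units.inv_mul, mul_one]
  · rw [Function.update_of_ne (fun hh => h (by rw [← hh, Equiv.symm_apply_apply])), Function.update_of_ne h]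
    simp

lemma monoM_transpose (π : Equiv.Perm (Fin t)) (gs : Fin t → Mk) :
    (monoM π gs)ᵀ = monoM π.symm (fun i => (gs (π.symm i))ᵀ) := by
  ext x y
  simp only [monoM, Matrix.transpose_apply, Matrix.of_apply]
  rw [← Equiv.prod_comp π.symm (fun i => gs i (y i) (x (π i)))]
  simp

/-- The factors of a monomial isometry of a tensor power are similitudes. -/
lemma similitude_of_isometry {S : Mk} (hS : S ≠ 0) (π : Equiv.Perm (Fin t)) (gs : Fin t → Mk)
    (h : (monoM π gs)ᵀ * pureTensor (fun _ : Fin t => S) * monoM π gs = pureTensor fun _ : Fin t => S) (i : Fin t) :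
    ∃ μ : F, μ ≠ 0 ∧ (gs i)ᵀ * S * gs i = μ • S := by
  rw [monoM_transpose, ← monoM_refl, monoM_mul, monoM_mul, Equiv.trans_refl, Equiv.symm_trans_self, monoM_refl,
    monoM_refl] at h
  obtain ⟨c, hc, h'⟩ := pureTensor_eq_cases (fun _ => hS) h (π i)
  exact ⟨c, hc, by simpa using h'⟩

/-- Conjugating a factor by an elementary involution. -/
lemma nil_conj_factor [CharP F 2] {as : Fin t → Mk} {i l : Fin t} (hne : l ≠ i) (hsq : as l * as l = 0) (M : Mk) :
    (1 + pureTensor as) * factorM i M * (1 + pureTensor as) =
      factorM i M + pureTensor (Function.update as i (as i * M + M * as i)) := by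
  classical
  have h1 : pureTensor as * factorM i M = pureTensor (Function.update as i (as i * M)) := by
    rw [factorM, pureTensor_mul]
    congr 1
    funext m
    rcases eq_or_ne m i with rfl | h
    · simp
    · simp [Function.update_of_ne h]
  have h2 : factorM i M * pureTensor as = pureTensor (Function.update as i (M * as i)) := by
    rw [factorM, pureTensor_mul]
    congr 1
    funext m
    rcases eq_or_ne m i with rfl | h
    · simp
    · simp [Function.update_of_ne h]
  have h3 : pureTensor as * factorM i M * pureTensor as = 0 := by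
    rw [h1, pureTensor_mul]
    refine pureTensor_eq_zero (i := l) ?_
    rw [Pi.mul_apply, Function.update_of_ne hne, hsq]
  rw [pureTensor_update_add, ← h1, ← h2]
  simp only [add_mul, mul_add, one_mul, mul_one, h3]
  abel

end Cfsg.Agent.Lib.NonMax.SympPower
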